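import Groth.Agent.AlgStLib.LocQ
import Groth.Agent.AlgStLib.LocEss
import Groth.Agent.AlgStLib.QuasiCompact

/-!
# Base changes of charts of stacks over a scheme, and closedness of images in the scheme
-/

set_option backward.isDefEq.respectTransparency false
set_option backward.isDefEq.respectTransparency.types false

universe u

open CategoryTheory CategoryTheory.Functor CategoryTheory.Limits AlgebraicGeometry Opposite AlgSp

namespace Groth.Agent.AlgStVC

open Groth.Agent.FibBase Groth.Agent.AlgSpLib Groth.Agent.AlgStLib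

variable {S : Scheme.{u}} {𝒳 𝒴 𝒜 ℬ : AlgSt.Cat S}

/-- Functors into a base change over a scheme with isomorphic projections agree on points. -/
theorem ofChart_eq_of_proj {U V T : Over S} (q : 𝒜 ⥤ᵇ FibCat.overCat V) (h : T ⟶ V)
    {F G : FibCat.overCat U ⥤ᵇ FibCat.fp q (AlgSt.overMap h)}
    (a : BasedFunctor.comp F (FibCat.fpFst q (AlgSt.overMap h)) ≅
      BasedFunctor.comp G (FibCat.fpFst q (AlgSt.overMap h)))
    (b : BasedFunctor.comp F (FibCat.fpSnd q (AlgSt.overMap h)) ≅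
      BasedFunctor.comp G (FibCat.fpSnd q (AlgSt.overMap h))) (t : ↥U.left) :
    AlgSt.Points.ofChart F t = AlgSt.Points.ofChart G t := by
  let o : (FibCat.overCat U : AlgSt.Cat S).obj :=
    Over.mk (Over.homMk (U.left.fromSpecResidueField t) rfl :
      Over.mk (U.left.fromSpecResidueField t ≫ U.hom) ⟶ U)
  let Q := (FibCat.overCat U : AlgSt.Cat S).p.obj o
  refine pts_eq_of_hom (Iso.hom (fpIsoMk (x := F.obj o) (y := G.obj o) (isoApp a o) (isoApp b o) ?_))
  have h1 : (FibCat.overCat V : AlgSt.Cat S).p.IsHomLift (𝟙 Q)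
      (q.map (isoApp a o).hom ≫ (G.obj o).obj.iso.hom) := by
    have := isoApp_lift a (rfl : (FibCat.overCat U : AlgSt.Cat S).p.obj o = Q)
    have := q.preserves_isHomLift (𝟙 Q) (isoApp a o).hom
    have h3 := fp_iso_lift (G.obj o)
    have hQ : 𝒜.p.obj (G.obj o).obj.fst = Q := G.w_obj o
    rw [hQ] at h3
    have := h3
    infer_instance
  have h2 : (FibCat.overCat V : AlgSt.Cat S).p.IsHomLift (𝟙 Q)
      ((F.obj o).obj.iso.hom ≫ (AlgSt.overMap h).map (isoApp b o).hom) := by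
    have := isoApp_lift b (rfl : (FibCat.overCat U : AlgSt.Cat S).p.obj o = Q)
    have := (AlgSt.overMap h).preserves_isHomLift (𝟙 Q) (isoApp b o).hom
    have h3 := fp_iso_lift (F.obj o)
    have hQ : 𝒜.p.obj (F.obj o).obj.fst = Q := F.w_obj o
    rw [hQ] at h3
    have := h3
    infer_instance
  exact Over.OverMorphism.ext ((map_eq_of_isHomLift_id h1).trans (map_eq_of_isHomLift_id h2).symm)

/-- The base change of a chart along a map of schemes. -/
theorem exists_chart_bc (h𝒜 : FibCat.IsFibGrpd 𝒜.p) {V W T WT : Over S} (q : 𝒜 ⥤ᵇ FibCat.overCat V)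
    {c : FibCat.overCat W ⥤ᵇ 𝒜} {g : W ⟶ V} (i : BasedFunctor.comp c q ≅ AlgSt.overMap g) (h : T ⟶ V)
    {k : WT ⟶ W} {gT : WT ⟶ T} (sq : IsPullback k gT g h)
    (hc₁ : AlgSt.RepByAlgSpWith (LocP @Smooth) c) (hc₂ : AlgSt.RepByAlgSpWith IsSurjectiveMor c) :
    ∃ cT : FibCat.overCat WT ⥤ᵇ FibCat.fp q (AlgSt.overMap h),
      AlgSt.RepByAlgSpWith (LocP @Smooth) cT ∧ AlgSt.RepByAlgSpWith IsSurjectiveMor cT ∧
      Nonempty (BasedFunctor.comp cT (FibCat.fpFst q (AlgSt.overMap h)) ≅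
        BasedFunctor.comp (AlgSt.overMap k) c) ∧
      Nonempty (BasedFunctor.comp cT (FibCat.fpSnd q (AlgSt.overMap h)) ≅ AlgSt.overMap gT) ∧
      ∀ x w, AlgSt.Points.map (FibCat.fpFst q (AlgSt.overMap h)) x = AlgSt.Points.ofChart c w →
        ∃ v, AlgSt.Points.ofChart cT v = x ∧ k.left v = w := by
  obtain ⟨G, hG, -, ⟨iG⟩⟩ := isEquivOver_inv (pasteVert_isEquivOver c q (AlgSt.overMap h))
  let M := fpMap (F := BasedFunctor.comp c q) (G := AlgSt.overMap h) (F' := AlgSt.overMap g)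
    (G' := AlgSt.overMap h) (a := BasedFunctor.id _) (b := BasedFunctor.id _) (c := BasedFunctor.id _) i
    (Iso.refl _)
  have hM : FibCat.IsEquivOver M := fpMap_isEquivOver _ _ isEquivOver_id isEquivOver_id
  let K : FibCat.overCat WT ⥤ᵇ FibCat.fp (BasedFunctor.comp c q) (AlgSt.overMap h) :=
    BasedFunctor.comp (sliceCone k gT g h sq.w) M
  let E : FibCat.overCat WT ⥤ᵇ FibCat.fp c (FibCat.fpFst q (AlgSt.overMap h)) := BasedFunctor.comp K G
  have hE : FibCat.IsEquivOver E := isEquivOver_comp (isEquivOver_comp (sliceCone_isEquivOver sq) hM) hG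
  let P := pasteVert c q (AlgSt.overMap h)
  let jK : BasedFunctor.comp E P ≅ K := whiskerLeftIso K iG
  let i₁ : BasedFunctor.comp E (FibCat.fpFst c (FibCat.fpFst q (AlgSt.overMap h))) ≅ AlgSt.overMap k :=
    whiskerRightIso jK (FibCat.fpFst (BasedFunctor.comp c q) (AlgSt.overMap h))
  let i₂ : BasedFunctor.comp (BasedFunctor.comp E (FibCat.fpSnd c (FibCat.fpFst q (AlgSt.overMap h))))
      (FibCat.fpSnd q (AlgSt.overMap h)) ≅ AlgSt.overMap gT :=
    whiskerRightIso jK (FibCat.fpSnd (BasedFunctor.comp c q) (AlgSt.overMap h))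
  refine ⟨BasedFunctor.comp E (FibCat.fpSnd c (FibCat.fpFst q (AlgSt.overMap h))), ?_, ?_,
    ⟨whiskerLeftIso E (FibCat.fpIso c (FibCat.fpFst q (AlgSt.overMap h))).symm ≪≫ whiskerRightIso i₁ c⟩,
    ⟨i₂⟩, fun x w hxw => ?_⟩
  · exact (repByAlgSpWith_iff_of_square (f := FibCat.fpSnd c (FibCat.fpFst q (AlgSt.overMap h)))
      (f' := BasedFunctor.comp E (FibCat.fpSnd c (FibCat.fpFst q (AlgSt.overMap h)))) (a := E)
      (b := BasedFunctor.id _) hE isEquivOver_id (Iso.refl _)).1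
      (repByAlgSpWith_fpSnd (FibCat.fpFst q (AlgSt.overMap h)) hc₁)
  · exact (repByAlgSpWith_iff_of_square (f := FibCat.fpSnd c (FibCat.fpFst q (AlgSt.overMap h)))
      (f' := BasedFunctor.comp E (FibCat.fpSnd c (FibCat.fpFst q (AlgSt.overMap h)))) (a := E)
      (b := BasedFunctor.id _) hE isEquivOver_id (Iso.refl _)).1
      (repByAlgSpWith_fpSnd (FibCat.fpFst q (AlgSt.overMap h)) hc₂)
  · obtain ⟨p, hp₁, hp₂⟩ := exists_pts_fp (fp_isFibGrpd h𝒜 (isFibGrpd_overCat T) (isFibGrpd_overCat V)) h𝒜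
      (isFibGrpd_overCat W) (FibCat.fpFst q (AlgSt.overMap h)) c (ptAt W w) x
      (by rw [hxw, ← ofChart_eq_map])
    obtain ⟨p', rfl⟩ := (pts_bijective_of_isEquivOver hE).2 p
    obtain ⟨v, rfl⟩ := ptAt_surjective WT p'
    refine ⟨v, ?_, ?_⟩
    · rw [ofChart_eq_map, pts_map_comp]
      exact hp₂
    · rw [← pts_map_comp, pts_map_congr i₁, map_overMap_ptAt] at hp₁
      have := congrArg (toSch W) hp₁
      rwa [toSch_ptAt, toSch_ptAt] at this

/-- The image in the scheme of every closed set of points is closed. -/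
def ImgClosed {T : Over S} (q : 𝒜 ⥤ᵇ FibCat.overCat T) : Prop :=
  ∀ C : Set (AlgSt.Points 𝒜), IsClosed C →
    IsClosed {t : ↥T.left | ∃ x ∈ C, AlgSt.Points.map q x = ptAt T t}

theorem ImgClosed.of_equiv {T : Over S} {q : 𝒜 ⥤ᵇ FibCat.overCat T} {q' : ℬ ⥤ᵇ FibCat.overCat T}
    (h𝒜 : FibCat.IsFibGrpd 𝒜.p) (hA : AlgSt.HasAtlas (LocP @Smooth) 𝒜) {e : 𝒜 ⥤ᵇ ℬ}
    (he : FibCat.IsEquivOver e) (i : BasedFunctor.comp e q' ≅ q) (h : ImgClosed q') : ImgClosed q := by
  obtain ⟨G, -, ⟨i₁⟩, ⟨i₂⟩⟩ := isEquivOver_inv he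
  intro C hC
  convert h _ (hC.preimage (continuous_pts_map h𝒜 hA G)) using 1
  ext t
  constructor
  · rintro ⟨x, hx, hxt⟩
    refine ⟨AlgSt.Points.map e x, ?_, ?_⟩
    · rwa [Set.mem_preimage, ← pts_map_comp, pts_map_congr i₁, pts_map_id]
    · rw [← pts_map_comp, pts_map_congr i]; exact hxt
  · rintro ⟨y, hy, hyt⟩
    refine ⟨AlgSt.Points.map G y, hy, ?_⟩
    rw [← pts_map_congr i, pts_map_comp, ← pts_map_comp G e, pts_map_congr i₂, pts_map_id]
    exact hyt

end Groth.Agent.AlgStVC
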