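import Groth.Agent.AlgStVC.BaseChange
import Groth.Agent.AlgSpVal.DvrThrough

/-!
# Closed images over a Noetherian affine scheme from extended lifts over discrete valuation rings
-/

set_option backward.isDefEq.respectTransparency false
set_option backward.isDefEq.respectTransparency.types false

universe u

open CategoryTheory CategoryTheory.Functor CategoryTheory.Limits AlgebraicGeometry Opposite AlgSp IsLocalRing

namespace Groth.Agent.AlgStVC

open Groth.Agent.FibBase Groth.Agent.AlgSpLib Groth.Agent.AlgStLib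

variable {S : Scheme.{u}} {𝒳 𝒴 : AlgSt.Cat S}

/-- The valuative criterion with extensions over discrete valuation rings. -/
def DvrLift (f : 𝒳 ⥤ᵇ 𝒴) : Prop :=
    ∀ (R : Type u) [CommRing R] [IsDomain R] [IsDiscreteValuationRing R]
        (sR : Spec (CommRingCat.of R) ⟶ S)
        (a : FibCat.overCat (Over.mk (Spec.map (CommRingCat.ofHom (algebraMap R (FractionRing R))) ≫ sR)) ⥤ᵇ 𝒳)
        (b : FibCat.overCat (Over.mk sR) ⥤ᵇ 𝒴)
        (α : BasedFunctor.comp a f ≅
          BasedFunctor.comp (AlgSt.overMap (Over.homMk (Spec.map (CommRingCat.ofHom (algebraMap R (FractionRing R)))) rfl :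
            Over.mk (Spec.map (CommRingCat.ofHom (algebraMap R (FractionRing R))) ≫ sR) ⟶ Over.mk sR)) b),
        ∃ (R' : Type u) (_ : CommRing R') (_ : IsDomain R') (_ : IsDiscreteValuationRing R') (φ : R →+* R')
          (_ : Function.Injective φ) (_ : IsLocalHom φ)
          (gψ : (Over.mk (Spec.map (CommRingCat.ofHom (algebraMap R' (FractionRing R'))) ≫
                  Spec.map (CommRingCat.ofHom φ) ≫ sR) : Over S) ⟶
                Over.mk (Spec.map (CommRingCat.ofHom (algebraMap R (FractionRing R))) ≫ sR))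
          (c : FibCat.overCat (Over.mk (Spec.map (CommRingCat.ofHom φ) ≫ sR)) ⥤ᵇ FibCat.fp f b),
          gψ ≫ (Over.homMk (Spec.map (CommRingCat.ofHom (algebraMap R (FractionRing R)))) rfl :
              Over.mk (Spec.map (CommRingCat.ofHom (algebraMap R (FractionRing R))) ≫ sR) ⟶ Over.mk sR) =
            (Over.homMk (Spec.map (CommRingCat.ofHom (algebraMap R' (FractionRing R')))) rfl :
                Over.mk (Spec.map (CommRingCat.ofHom (algebraMap R' (FractionRing R'))) ≫
                  Spec.map (CommRingCat.ofHom φ) ≫ sR) ⟶ Over.mk (Spec.map (CommRingCat.ofHom φ) ≫ sR)) ≫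
              (Over.homMk (Spec.map (CommRingCat.ofHom φ)) rfl :
                Over.mk (Spec.map (CommRingCat.ofHom φ) ≫ sR) ⟶ Over.mk sR) ∧
          Nonempty (BasedFunctor.comp c (FibCat.fpSnd f b) ≅
            AlgSt.overMap (Over.homMk (Spec.map (CommRingCat.ofHom φ)) rfl :
              Over.mk (Spec.map (CommRingCat.ofHom φ) ≫ sR) ⟶ Over.mk sR)) ∧
          Nonempty (BasedFunctor.comp
              (AlgSt.overMap (Over.homMk (Spec.map (CommRingCat.ofHom (algebraMap R' (FractionRing R')))) rfl :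
                Over.mk (Spec.map (CommRingCat.ofHom (algebraMap R' (FractionRing R'))) ≫
                  Spec.map (CommRingCat.ofHom φ) ≫ sR) ⟶ Over.mk (Spec.map (CommRingCat.ofHom φ) ≫ sR))) c ≅
            BasedFunctor.comp (AlgSt.overMap gψ)
              (FibCat.fpLift a
                (AlgSt.overMap (Over.homMk (Spec.map (CommRingCat.ofHom (algebraMap R (FractionRing R)))) rfl :
                  Over.mk (Spec.map (CommRingCat.ofHom (algebraMap R (FractionRing R))) ≫ sR) ⟶ Over.mk sR)) α))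

theorem imgClosed_of_dvr {f : 𝒳 ⥤ᵇ 𝒴} (hval : DvrLift f) {T W : Over S}
    [IsAffine T.left] [IsAffine W.left] [IsLocallyNoetherian T.left] (bT : FibCat.overCat T ⥤ᵇ 𝒴)
    (hP : AlgSt.IsAlgStack Scheme.fppfPrecoverage (FibCat.fp f bT))
    {c : FibCat.overCat W ⥤ᵇ FibCat.fp f bT}
    (hc₂ : AlgSt.RepByAlgSpWith IsSurjectiveMor c) {g : W ⟶ T}
    (i : BasedFunctor.comp c (FibCat.fpSnd f bT) ≅ AlgSt.overMap g) [LocallyOfFiniteType g.left] :
    ImgClosed (FibCat.fpSnd f bT) := by
  intro C hC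
  have hgP := hP.isStack.1
  let Z : Set ↥W.left := AlgSt.Points.ofChart c ⁻¹' C
  have hZ : IsClosed Z := hC.preimage (continuous_ofChart hgP hP.atlas c)
  have himg : ∀ w, AlgSt.Points.map (FibCat.fpSnd f bT) (AlgSt.Points.ofChart c w) = ptAt T (g.left w) := fun w => by
    rw [map_ofChart, ofChart_eq_map, pts_map_congr i, map_overMap_ptAt]
  have hset : {t : ↥T.left | ∃ x ∈ C, AlgSt.Points.map (FibCat.fpSnd f bT) x = ptAt T t} = g.left '' Z := by
    ext t
    constructor
    · rintro ⟨x, hx, hxt⟩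
      obtain ⟨w, rfl⟩ := ofChart_surjective hgP hc₂ x
      refine ⟨w, hx, ?_⟩
      have := congrArg (toSch T) ((himg w).symm.trans hxt)
      rwa [toSch_ptAt, toSch_ptAt] at this
    · rintro ⟨w, hw, rfl⟩
      exact ⟨_, hw, himg w⟩
  have hstab : StableUnderSpecialization (g.left '' Z) := by
    rintro t t' hst ⟨w, hw, rfl⟩
    rw [← hset]
    obtain ⟨A, _, _, _, ι, κ, hι, hκ, hcomm⟩ := AlgSpVal.exists_dvr_path_field g.left w t' hst
    let sR : Spec (CommRingCat.of A) ⟶ S := ι ≫ T.hom
    let m := Spec.map (CommRingCat.ofHom (algebraMap A (FractionRing A)))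
    let ιo : Over.mk sR ⟶ T := Over.homMk ι rfl
    let κo : Over.mk (m ≫ sR) ⟶ W := Over.homMk κ (by
      show κ ≫ W.hom = m ≫ ι ≫ T.hom
      rw [← Over.w g, ← Category.assoc, hcomm, Category.assoc])
    let mo : Over.mk (m ≫ sR) ⟶ Over.mk sR := Over.homMk m rfl
    let b := BasedFunctor.comp (AlgSt.overMap ιo) bT
    let a : FibCat.overCat (Over.mk (m ≫ sR)) ⥤ᵇ 𝒳 :=
      BasedFunctor.comp (AlgSt.overMap κo) (BasedFunctor.comp c (FibCat.fpFst f bT))
    let j : BasedFunctor.comp (BasedFunctor.comp (AlgSt.overMap κo) c) (FibCat.fpSnd f bT) ≅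
        BasedFunctor.comp (AlgSt.overMap mo) (AlgSt.overMap ιo) :=
      whiskerLeftIso (AlgSt.overMap κo) i ≪≫ AlgStLib.overMapCompIso κo g ≪≫
        eqToIso (congrArg AlgSt.overMap (Over.OverMorphism.ext hcomm : κo ≫ g = mo ≫ ιo)) ≪≫
        (AlgStLib.overMapCompIso mo ιo).symm
    let α : BasedFunctor.comp a f ≅ BasedFunctor.comp (AlgSt.overMap mo) b :=
      whiskerLeftIso (AlgSt.overMap κo) (whiskerLeftIso c (FibCat.fpIso f bT)) ≪≫ whiskerRightIso j bT
    obtain ⟨R', _, _, _, φ, -, hφ, gψ, c', -, ⟨j₁⟩, ⟨j₂⟩⟩ := hval A sR a b α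
    let E : FibCat.fp f b ⥤ᵇ FibCat.fp f bT :=
      FibCat.fpLift (FibCat.fpFst f b) (BasedFunctor.comp (FibCat.fpSnd f b) (AlgSt.overMap ιo))
        (FibCat.fpIso f b)
    let L := FibCat.fpLift a (AlgSt.overMap mo) α
    have hgen : ∀ s, AlgSt.Points.map E (AlgSt.Points.ofChart L s) = AlgSt.Points.ofChart c w := fun s => by
      have hs : κo.left s = w := by
        refine Eq.trans ?_ hκ
        exact congrArg κ (Subsingleton.elim (α := PrimeSpectrum (FractionRing A)) _ _)
      rw [map_ofChart, ← hs, ← ofChart_overMap]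
      let o : (FibCat.overCat (Over.mk (m ≫ sR)) : AlgSt.Cat S).obj :=
        Over.mk (Over.homMk ((Over.mk (m ≫ sR)).left.fromSpecResidueField s) rfl :
          Over.mk ((Over.mk (m ≫ sR)).left.fromSpecResidueField s ≫ (Over.mk (m ≫ sR)).hom) ⟶ Over.mk (m ≫ sR))
      refine (pts_eq_of_hom (Iso.hom (fpIsoMk (x := (BasedFunctor.comp (AlgSt.overMap κo) c).obj o)
        (y := (BasedFunctor.comp L E).obj o) (Iso.refl _) (isoApp j o) ?_))).symm
      show f.map (𝟙 _) ≫ ((isoApp (whiskerLeftIso (AlgSt.overMap κo) (whiskerLeftIso c (FibCat.fpIso f bT))) o).hom ≫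
          bT.map (isoApp j o).hom) = _ ≫ bT.map (isoApp j o).hom
      rw [f.toFunctor.map_id, Category.id_comp]
      rfl
    let m' : Over.mk (Spec.map (CommRingCat.ofHom (algebraMap R' (FractionRing R'))) ≫
        Spec.map (CommRingCat.ofHom φ) ≫ sR) ⟶ Over.mk (Spec.map (CommRingCat.ofHom φ) ≫ sR) :=
      Over.homMk (Spec.map (CommRingCat.ofHom (algebraMap R' (FractionRing R')))) rfl
    let η : PrimeSpectrum (FractionRing R') := closedPoint (FractionRing R')
    let z : PrimeSpectrum R' := closedPoint R'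
    let F := BasedFunctor.comp c' E
    have hη : AlgSt.Points.ofChart F (m'.left η) = AlgSt.Points.ofChart c w := by
      rw [← map_ofChart, ← ofChart_overMap, ofChart_eq_map, pts_map_congr j₂, ← ofChart_eq_map, ofChart_overMap]
      exact hgen _
    refine ⟨AlgSt.Points.ofChart F z, ?_, ?_⟩
    · have h2 : (m'.left η : ↥(Spec (CommRingCat.of R'))) ⤳ z :=
        IsLocalRing.specializes_closedPoint (show PrimeSpectrum R' from _)
      have h3 := h2.map (continuous_ofChart hgP hP.atlas F)
      rw [hη] at h3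
      exact h3.mem_closed hC hw
    · rw [map_ofChart, ofChart_eq_map]
      show AlgSt.Points.map (BasedFunctor.comp (BasedFunctor.comp c' (FibCat.fpSnd f b)) (AlgSt.overMap ιo)) _ = _
      rw [pts_map_comp, pts_map_congr j₁, map_overMap_ptAt, map_overMap_ptAt]
      congr 1
      show ι (Spec.map (CommRingCat.ofHom φ) (closedPoint R')) = t'
      have := hφ
      rw [show Spec.map (CommRingCat.ofHom φ) (closedPoint R') = closedPoint A from comap_closedPoint φ]
      exact hι
  rw [hset]
  have hX : IsClosed (T.left.isoSpec.hom '' (g.left '' Z)) := by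
    obtain ⟨φ, hφ⟩ : ∃ φ : Γ(T.left, ⊤) ⟶ Γ(W.left, ⊤),
        Spec.map φ = W.left.isoSpec.inv ≫ g.left ≫ T.left.isoSpec.hom := ⟨_, Spec.map_preimage _⟩
    let Z' : Set ↥(Spec Γ(W.left, ⊤)) := W.left.isoSpec.inv ⁻¹' Z
    have hZ' : IsClosed Z' := hZ.preimage W.left.isoSpec.inv.continuous
    have e : T.left.isoSpec.hom '' (g.left '' Z) = Spec.map φ '' Z' := by
      rw [hφ]
      ext y
      constructor
      · rintro ⟨_, ⟨w, hw, rfl⟩, rfl⟩
        refine ⟨W.left.isoSpec.hom w, ?_, ?_⟩
        · show W.left.isoSpec.inv (W.left.isoSpec.hom w) ∈ Z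
          rw [← Scheme.Hom.comp_apply, Iso.hom_inv_id]
          exact hw
        · rw [← Scheme.Hom.comp_apply, Iso.hom_inv_id_assoc, Scheme.Hom.comp_apply]
      · rintro ⟨v, hv, rfl⟩
        exact ⟨_, ⟨_, hv, rfl⟩, by rw [Scheme.Hom.comp_apply, Scheme.Hom.comp_apply]⟩
    rw [e]
    refine PrimeSpectrum.isClosed_image_of_stableUnderSpecialization φ.hom Z' hZ' ?_
    change StableUnderSpecialization (Spec.map φ '' Z')
    rw [← e]
    intro x y hxy hx
    obtain ⟨t, ht, rfl⟩ := hx
    obtain ⟨t', rfl⟩ := T.left.isoSpec.hom.surjective y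
    exact ⟨t', hstab (T.left.isoSpec.hom.isOpenEmbedding.isInducing.specializes_iff.1 hxy) ht, rfl⟩
  have := hX.preimage T.left.isoSpec.hom.continuous
  rwa [Set.preimage_image_eq _ T.left.isoSpec.hom.isOpenEmbedding.injective] at this

end Groth.Agent.AlgStVC
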