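import Groth.Agent.AlgStVC.BaseChange
import Groth.Agent.AlgSpVal.PolyClosed

/-!
# Closedness of all affine base changes of a stack from closedness of the polynomial base changes
-/

set_option backward.isDefEq.respectTransparency false
set_option backward.isDefEq.respectTransparency.types false

universe u

open CategoryTheory CategoryTheory.Functor CategoryTheory.Limits AlgebraicGeometry Opposite AlgSp
open scoped TensorProduct

namespace Groth.Agent.AlgStVC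

open Groth.Agent.FibBase Groth.Agent.AlgSpLib Groth.Agent.AlgStLib Groth.Agent.AlgSpVal

variable {S : Scheme.{u}} {𝒳 : AlgSt.Cat S}

/-- The closure of the projection of a closed set is transported along a chart. -/
theorem exists_nhd_of_descent {T₀ T W₀ W : Over S} {𝒜 : AlgSt.Cat S} (h𝒜 : FibCat.IsFibGrpd 𝒜.p)
    (hA : AlgSt.HasAtlas (LocP @Smooth) 𝒜) (q₀ : 𝒜 ⥤ᵇ FibCat.overCat T₀) (hq₀ : ImgClosed q₀)
    {c₀ : FibCat.overCat W₀ ⥤ᵇ 𝒜} (hc₁ : AlgSt.RepByAlgSpWith (LocP @Smooth) c₀)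
    (hc₂ : AlgSt.RepByAlgSpWith IsSurjectiveMor c₀) {g₀ : W₀ ⟶ T₀}
    (i₀ : BasedFunctor.comp c₀ q₀ ≅ AlgSt.overMap g₀) (φ : T ⟶ T₀)
    {c : FibCat.overCat W ⥤ᵇ FibCat.fp q₀ (AlgSt.overMap φ)} {ψ : W ⟶ W₀}
    (hlift : ∀ x w, AlgSt.Points.map (FibCat.fpFst q₀ (AlgSt.overMap φ)) x = AlgSt.Points.ofChart c₀ w →
        ∃ v, AlgSt.Points.ofChart c v = x ∧ ψ.left v = w)
    {C : Set (AlgSt.Points (FibCat.fp q₀ (AlgSt.overMap φ)))} {Z₀ : Set ↥W₀.left} (hZ₀ : IsClosed Z₀)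
    (hsub : ∀ v, AlgSt.Points.ofChart c v ∈ C → ψ.left v ∈ Z₀) (t : ↥T.left)
    (hmiss : ∀ w ∈ Z₀, g₀.left w ≠ φ.left t) :
    ∃ O : Set ↥T.left, IsOpen O ∧ t ∈ O ∧
      ∀ t' ∈ O, ∀ x ∈ C, AlgSt.Points.map (FibCat.fpSnd q₀ (AlgSt.overMap φ)) x ≠ ptAt T t' := by
  let π := AlgSt.Points.map (FibCat.fpFst q₀ (AlgSt.overMap φ))
  let C₀ := closure (π '' C)
  have hsub' : AlgSt.Points.ofChart c₀ ⁻¹' C₀ ⊆ Z₀ := by
    rw [(isOpenMap_ofChart h𝒜 (repByAlgSpWith_flat_of_smooth hc₁)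
      (repByAlgSpWith_lfp_of_smooth hc₁)).preimage_closure_eq_closure_preimage (continuous_ofChart h𝒜 hA c₀)]
    refine closure_minimal ?_ hZ₀
    rintro w ⟨x, hx, hxw⟩
    obtain ⟨v, rfl, rfl⟩ := hlift x w hxw
    exact hsub v hx
  refine ⟨φ.left ⁻¹' {t₀ | ∃ x ∈ C₀, AlgSt.Points.map q₀ x = ptAt T₀ t₀}ᶜ,
    (hq₀ _ isClosed_closure).isOpen_compl.preimage φ.left.continuous, ?_, ?_⟩
  · rintro ⟨x, hx, hxt⟩
    obtain ⟨w, rfl⟩ := ofChart_surjective h𝒜 hc₂ x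
    rw [map_ofChart, ofChart_eq_map, pts_map_congr i₀, map_overMap_ptAt] at hxt
    have h' := congrArg (toSch T₀) hxt
    rw [toSch_ptAt, toSch_ptAt] at h'
    exact hmiss w (hsub' hx) h'
  · intro t' ht' x hx hxt
    refine ht' ⟨π x, subset_closure ⟨x, hx, rfl⟩, ?_⟩
    show AlgSt.Points.map q₀ (AlgSt.Points.map _ x) = _
    rw [← pts_map_comp, pts_map_congr (FibCat.fpIso q₀ (AlgSt.overMap φ)), pts_map_comp, hxt, map_overMap_ptAt]

variable {A : CommRingCat.{u}} {str : Spec A ⟶ S}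

/-- Closedness of the base change to every affine scheme follows from closedness of the base changes to
polynomial rings. -/
theorem imgClosed_of_polynomial (h𝒳 : AlgSt.IsAlgStack Scheme.fppfPrecoverage 𝒳)
    (q : 𝒳 ⥤ᵇ FibCat.overCat (Over.mk str)) {R : CommRingCat.{u}} (γ : A ⟶ R)
    {c : FibCat.overCat (Over.mk (Spec.map γ ≫ str)) ⥤ᵇ 𝒳} (hc₁ : AlgSt.RepByAlgSpWith (LocP @Smooth) c)
    (hc₂ : AlgSt.RepByAlgSpWith IsSurjectiveMor c)
    (i : BasedFunctor.comp c q ≅ AlgSt.overMap (specToBase γ))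
    (H : ∀ n, ImgClosed (FibCat.fpSnd q (AlgSt.overMap (specToBase (str := str) (polyHom A n)))))
    {B : CommRingCat.{u}} (β : A ⟶ B) :
    ImgClosed (FibCat.fpSnd q (AlgSt.overMap (specToBase (str := str) β))) := by
  intro C hC
  let V : Over S := Over.mk str
  let W : Over S := Over.mk (Spec.map γ ≫ str)
  let _ : Algebra A R := γ.hom.toAlgebra
  let _ : Algebra A B := β.hom.toAlgebra
  let l : R ⟶ CommRingCat.of (R ⊗[A] B) := CommRingCat.ofHom Algebra.TensorProduct.includeLeftRingHom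
  let r : B ⟶ CommRingCat.of (R ⊗[A] B) :=
    CommRingCat.ofHom (Algebra.TensorProduct.includeRight (R := A) (A := R) (B := B)).toRingHom
  have hpo : IsPushout γ β l r := CommRingCat.isPushout_tensorProduct A R B
  let Tβ : Over S := Over.mk (Spec.map β ≫ str)
  let Wβ : Over S := Over.mk (Spec.map (β ≫ r) ≫ str)
  let kβ : Wβ ⟶ W := specHom γ l _ hpo.w
  let gβ : Wβ ⟶ Tβ := specHom β r _ rfl
  have sqβ : IsPullback kβ gβ (specToBase γ) (specToBase β) :=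
    IsPullback.of_map (Over.forget S) (Over.OverMorphism.ext (isPullback_SpecMap_of_isPushout _ _ _ _ hpo).w)
      (isPullback_SpecMap_of_isPushout _ _ _ _ hpo)
  obtain ⟨cβ, -, -, ⟨aβ⟩, ⟨bβ⟩, -⟩ := exists_chart_bc h𝒳.isStack.1 q i (specToBase β) sqβ hc₁ hc₂
  rw [← isOpen_compl_iff, isOpen_iff_forall_mem_open]
  intro t ht
  let Cw : Set (PrimeSpectrum (R ⊗[A] B)) := AlgSt.Points.ofChart cβ ⁻¹' C
  have hfp₀ : ∀ {T : Over S} (h : T ⟶ V), AlgSt.IsAlgStack Scheme.fppfPrecoverage (FibCat.fp q (AlgSt.overMap h)) :=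
    fun h => isAlgStack_fp h𝒳 (isAlgStack_overCat _) (isAlgStack_overCat V).isStack (isAlgStack_overCat V).diag _ _
  have hUB : IsClosed Cw :=
    hC.preimage (continuous_ofChart (hfp₀ (specToBase β)).isStack.1 (hfp₀ (specToBase β)).atlas cβ)
  let J : Ideal (R ⊗[A] B) := PrimeSpectrum.vanishingIdeal Cw
  have hJ : PrimeSpectrum.zeroLocus (J : Set (R ⊗[A] B)) = Cw := by
    rw [PrimeSpectrum.zeroLocus_vanishingIdeal_eq_closure]; exact hUB.closure_eq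
  obtain ⟨n, φ, hφ⟩ := exists_polynomial_descent J (show PrimeSpectrum B from t).asIdeal fun Q hQ hJQ hQt => by
    have hw : (⟨Q, hQ⟩ : PrimeSpectrum (R ⊗[A] B)) ∈ Cw := hJ ▸ (show (J : Set (R ⊗[A] B)) ⊆ Q from hJQ)
    refine ht ⟨_, hw, ?_⟩
    rw [map_ofChart, ofChart_eq_map, pts_map_congr bβ, map_overMap_ptAt]
    exact congrArg _ (PrimeSpectrum.ext hQt)
  let B₀ : CommRingCat.{u} := CommRingCat.of (MvPolynomial (ULift.{u} (Fin n)) A)
  let β₀ : A ⟶ B₀ := polyHom A n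
  let T₀ : Over S := Over.mk (Spec.map β₀ ≫ str)
  let l₀ : R ⟶ CommRingCat.of (R ⊗[A] B₀) := CommRingCat.ofHom Algebra.TensorProduct.includeLeftRingHom
  let r₀ : B₀ ⟶ CommRingCat.of (R ⊗[A] B₀) :=
    CommRingCat.ofHom (Algebra.TensorProduct.includeRight (R := A) (A := R) (B := B₀)).toRingHom
  have hpo₀ : IsPushout γ β₀ l₀ r₀ := CommRingCat.isPushout_tensorProduct A R B₀
  let W₀ : Over S := Over.mk (Spec.map (β₀ ≫ r₀) ≫ str)
  let k₀ : W₀ ⟶ W := specHom γ l₀ _ hpo₀.w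
  let g₀ : W₀ ⟶ T₀ := specHom β₀ r₀ _ rfl
  have sq₀ : IsPullback k₀ g₀ (specToBase γ) (specToBase β₀) :=
    IsPullback.of_map (Over.forget S) (Over.OverMorphism.ext (isPullback_SpecMap_of_isPushout _ _ _ _ hpo₀).w)
      (isPullback_SpecMap_of_isPushout _ _ _ _ hpo₀)
  obtain ⟨c₀, hc₀₁, hc₀₂, ⟨a₀⟩, ⟨b₀⟩, -⟩ := exists_chart_bc h𝒳.isStack.1 q i (specToBase β₀) sq₀ hc₁ hc₂
  let φc : B₀ ⟶ B := CommRingCat.ofHom φ.toRingHom
  have hφc : β₀ ≫ φc = β := CommRingCat.hom_ext (RingHom.ext φ.commutes)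
  let Φ : CommRingCat.of (R ⊗[A] B₀) ⟶ CommRingCat.of (R ⊗[A] B) :=
    CommRingCat.ofHom (Algebra.TensorProduct.map (AlgHom.id A R) φ).toRingHom
  have hl : l₀ ≫ Φ = l := by
    ext x
    change Algebra.TensorProduct.map (AlgHom.id A R) φ (x ⊗ₜ 1) = x ⊗ₜ 1
    simp
  have hr : r₀ ≫ Φ = φc ≫ r := by
    refine CommRingCat.hom_ext (RingHom.ext fun x => ?_)
    change Algebra.TensorProduct.map (AlgHom.id A R) φ (1 ⊗ₜ x) = 1 ⊗ₜ φ x
    simp
  let f₀ : Tβ ⟶ T₀ := specHom β₀ φc β hφc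
  let ψ : Wβ ⟶ W₀ := specHom (β₀ ≫ r₀) Φ (β ≫ r) (by rw [Category.assoc, hr, ← Category.assoc, hφc])
  have hψk : ψ ≫ k₀ = kβ := by rw [specHom_comp]; exact specHom_congr _ _ _ _ hl
  have hψg : ψ ≫ g₀ = gβ ≫ f₀ := by
    rw [specHom_comp, specHom_comp]; exact specHom_congr _ _ _ _ hr
  have hf₀ : f₀ ≫ specToBase β₀ = specToBase β := specHom_toBase _ _ _ _
  have sqψ : IsPullback ψ gβ g₀ f₀ := IsPullback.of_right (by rwa [hψk, hf₀]) hψg sq₀
  let q₀ := FibCat.fpSnd q (AlgSt.overMap (specToBase (str := str) β₀))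
  obtain ⟨c', -, -, ⟨a'⟩, ⟨b'⟩, hlift⟩ :=
    exists_chart_bc (hfp₀ (specToBase β₀)).isStack.1 q₀ b₀ f₀ sqψ hc₀₁ hc₀₂
  -- the comparison with the direct base change
  let eM := fpMap (F := q) (G := AlgSt.overMap (specToBase (str := str) β)) (F' := q)
    (G' := BasedFunctor.comp (AlgSt.overMap f₀) (AlgSt.overMap (specToBase (str := str) β₀)))
    (a := BasedFunctor.id _) (b := BasedFunctor.id _) (c := BasedFunctor.id _) (Iso.refl _)
    (AlgStLib.overMapCompIso f₀ (specToBase (str := str) β₀) ≪≫ eqToIso (congrArg AlgSt.overMap hf₀))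
  let e : FibCat.fp q₀ (AlgSt.overMap f₀) ⥤ᵇ FibCat.fp q (AlgSt.overMap (specToBase (str := str) β)) :=
    BasedFunctor.comp (pasteHor q (AlgSt.overMap f₀) (AlgSt.overMap (specToBase (str := str) β₀))) eM
  have he : FibCat.IsEquivOver e := isEquivOver_comp (pasteHor_isEquivOver _ _ _)
    (fpMap_isEquivOver _ _ isEquivOver_id isEquivOver_id)
  have hcmp : ∀ v, AlgSt.Points.map e (AlgSt.Points.ofChart c' v) = AlgSt.Points.ofChart cβ v := fun v => by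
    rw [map_ofChart]
    refine ofChart_eq_of_proj q _ ?_ ?_ v
    · exact whiskerRightIso a' (FibCat.fpFst q _) ≪≫ whiskerLeftIso (AlgSt.overMap ψ) a₀ ≪≫
        whiskerRightIso (AlgStLib.overMapCompIso ψ k₀ ≪≫ eqToIso (congrArg AlgSt.overMap hψk)) c ≪≫ aβ.symm
    · exact b' ≪≫ bβ.symm
  have hC' : ∀ x ∈ C, ∃ x', AlgSt.Points.map e x' = x ∧
      AlgSt.Points.map (FibCat.fpSnd q₀ (AlgSt.overMap f₀)) x' =
        AlgSt.Points.map (FibCat.fpSnd q _) x := fun x _ => by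
    obtain ⟨z, rfl⟩ := (pts_bijective_of_isEquivOver he).2 x
    refine ⟨z, rfl, ?_⟩
    rw [← pts_map_comp e]
    rfl
  obtain ⟨O, hO, htO, hO'⟩ := exists_nhd_of_descent (hfp₀ (specToBase β₀)).isStack.1 (hfp₀ (specToBase β₀)).atlas
    q₀ (H n) hc₀₁ hc₀₂ b₀ f₀ hlift (C := AlgSt.Points.map e ⁻¹' C)
    (Z₀ := (PrimeSpectrum.zeroLocus (J.comap Φ.hom : Set (R ⊗[A] B₀)) : Set (PrimeSpectrum (R ⊗[A] B₀))))
    (PrimeSpectrum.isClosed_zeroLocus _)
    (fun v hv x hx => hJ.ge (show (v : PrimeSpectrum (R ⊗[A] B)) ∈ Cw from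
      (show AlgSt.Points.ofChart cβ v ∈ C from hcmp v ▸ hv)) hx) t
    (fun w hw hwt => hφ (show PrimeSpectrum (R ⊗[A] B₀) from w).asIdeal (show PrimeSpectrum (R ⊗[A] B₀) from w).isPrime
      hw (congrArg PrimeSpectrum.asIdeal hwt))
  refine ⟨O, fun t' ht' ⟨x, hx, hxt⟩ => ?_, hO, htO⟩
  obtain ⟨x', hx', hx''⟩ := hC' x hx
  exact hO' t' ht' x' (show AlgSt.Points.map e x' ∈ C from hx'.symm ▸ hx) (hx''.trans hxt)

end Groth.Agent.AlgStVC
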