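import Groth.Agent.AlgStVC.PolyDescent
import Groth.Agent.AlgStVC.DvrClosed
import Groth.Agent.AlgStLib.EtaleToFppf
import Groth.Agent.AlgStLib.SmoothBootstrap

/-!
# Universal closedness of a finite type functor from extended lifts over discrete valuation rings
-/

set_option backward.isDefEq.respectTransparency false
set_option backward.isDefEq.respectTransparency.types false

universe u

open CategoryTheory CategoryTheory.Functor CategoryTheory.Limits AlgebraicGeometry Opposite AlgSp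

namespace Groth.Agent.AlgStVC

open Groth.Agent.FibBase Groth.Agent.AlgSpLib Groth.Agent.AlgStLib Groth.Agent.AlgSpVal

variable {S : Scheme.{u}} {𝒳 𝒴 : AlgSt.Cat S}

local notation "K₀" => Scheme.fppfPrecoverage

theorem repByAlgSpWith_overMap_openImm_comp {V U : Over S} {j : V ⟶ U} [IsOpenImmersion j.left]
    {x : FibCat.overCat U ⥤ᵇ 𝒳} (hx : AlgSt.RepByAlgSpWith (LocP @Smooth) x) :
    AlgSt.RepByAlgSpWith (LocP @Smooth) (BasedFunctor.comp (AlgSt.overMap j) x) :=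
  repByAlgSpWith_locP_comp (isFibGrpd_overCat V) (isFibGrpd_overCat U)
    (repByAlgSpWith_overMap stableBC_locP (k := j) (locP_of_repWith
      ((AlgSp.repWith_yon_map_iff (P := @Smooth) _).2 (inferInstanceAs (Smooth j.left))))) hx

theorem repByAlgSpWith_overMap_surj_comp {V U : Over S} {j : V ⟶ U} (hj : Function.Surjective j.left)
    {x : FibCat.overCat U ⥤ᵇ 𝒳} (hx : AlgSt.RepByAlgSpWith IsSurjectiveMor x) :
    AlgSt.RepByAlgSpWith IsSurjectiveMor (BasedFunctor.comp (AlgSt.overMap j) x) :=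
  repByAlgSpWith_isSurjectiveMor_comp (isFibGrpd_overCat V) (isFibGrpd_overCat U)
    (repByAlgSpWith_overMap AlgStLib.stableBC_isSurjectiveMor (k := j) (surjective_map_of_repWith
      ((AlgSp.repWith_yon_map_iff (P := @Surjective) _).2 ⟨hj⟩))) hx

/-- Over a Noetherian affine chart of the target, images of closed sets are closed after every affine base change. -/
theorem imgClosed_of_chart (h𝒳 : AlgSt.IsAlgStack K₀ 𝒳) (h𝒴 : AlgSt.IsAlgStack K₀ 𝒴) {f : 𝒳 ⥤ᵇ 𝒴}
    (hft : LocQS (LocP @LocallyOfFiniteType) f) (hval : DvrLift f) {A : CommRingCat.{u}} [IsNoetherianRing A]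
    {str : Spec A ⟶ S} (y : FibCat.overCat (Over.mk str) ⥤ᵇ 𝒴) (hy : AlgSt.RepByAlgSpWith (LocP @Smooth) y)
    (hq : AlgSt.IsQuasiCompact (FibCat.fp f y)) {B : CommRingCat.{u}} (β : A ⟶ B) :
    ImgClosed (FibCat.fpSnd f (BasedFunctor.comp (AlgSt.overMap (specToBase (str := str) β)) y)) := by
  obtain ⟨W₁, c₁, hW₁, hc₁, hc₁'⟩ := hq
  have := hW₁
  obtain ⟨g₁, ⟨i₁⟩⟩ := FibBase.exists_mapB (BasedFunctor.comp c₁ (FibCat.fpSnd f y))
  have hg₁ : LocallyOfFiniteType g₁.left :=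
    locP_yon_map (P := @LocallyOfFiniteType) (hft.scheme c₁ hy hc₁ i₁.symm)
  obtain ⟨γ, hγ⟩ : ∃ γ : A ⟶ Γ(W₁.left, ⊤), Spec.map γ = W₁.left.isoSpec.inv ≫ g₁.left := ⟨_, Spec.map_preimage _⟩
  let W : Over S := Over.mk (Spec.map γ ≫ str)
  let iW : W ⟶ W₁ := Over.homMk W₁.left.isoSpec.inv (by
    show W₁.left.isoSpec.inv ≫ W₁.hom = Spec.map γ ≫ str
    rw [hγ, Category.assoc, ← Over.w g₁]
    rfl)
  have : IsOpenImmersion iW.left := inferInstanceAs (IsOpenImmersion W₁.left.isoSpec.inv)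
  let c : FibCat.overCat W ⥤ᵇ FibCat.fp f y := BasedFunctor.comp (AlgSt.overMap iW) c₁
  have hc : AlgSt.RepByAlgSpWith (LocP @Smooth) c := repByAlgSpWith_overMap_openImm_comp hc₁
  have hc' : AlgSt.RepByAlgSpWith IsSurjectiveMor c :=
    repByAlgSpWith_overMap_surj_comp (j := iW) W₁.left.isoSpec.inv.surjective hc₁'
  let i : BasedFunctor.comp c (FibCat.fpSnd f y) ≅ AlgSt.overMap (specToBase (str := str) γ) :=
    whiskerLeftIso (AlgSt.overMap iW) i₁.symm ≪≫ AlgStLib.overMapCompIso iW g₁ ≪≫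
      eqToIso (congrArg AlgSt.overMap (Over.OverMorphism.ext hγ.symm))
  have hfp : ∀ {T : Over S} (b : FibCat.overCat T ⥤ᵇ 𝒴), AlgSt.IsAlgStack K₀ (FibCat.fp f b) :=
    fun b => isAlgStack_fp h𝒳 (isAlgStack_overCat _) h𝒴.isStack h𝒴.diag f b
  have hn : ∀ n, ImgClosed (FibCat.fpSnd (FibCat.fpSnd f y)
      (AlgSt.overMap (specToBase (str := str) (polyHom A n)))) := fun n => by
    let β₀ := polyHom A n
    let B₀ : CommRingCat.{u} := CommRingCat.of (MvPolynomial (ULift.{u} (Fin n)) A)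
    let T₀ : Over S := Over.mk (Spec.map β₀ ≫ str)
    let h₀ : T₀ ⟶ Over.mk str := specToBase (str := str) β₀
    let W₀ : Over S := Over.mk (pullback.fst (Spec.map γ) (Spec.map β₀) ≫ W.hom)
    let k₀ : W₀ ⟶ W := Over.homMk (pullback.fst (Spec.map γ) (Spec.map β₀)) rfl
    let g₀ : W₀ ⟶ T₀ := Over.homMk (pullback.snd (Spec.map γ) (Spec.map β₀))
      (show pullback.snd (Spec.map γ) (Spec.map β₀) ≫ Spec.map β₀ ≫ str =
          pullback.fst (Spec.map γ) (Spec.map β₀) ≫ Spec.map γ ≫ str by rw [← pullback.condition_assoc])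
    have sq : IsPullback k₀ g₀ (specToBase γ) h₀ :=
      IsPullback.of_map (Over.forget S) (Over.OverMorphism.ext pullback.condition) (IsPullback.of_hasPullback _ _)
    obtain ⟨c₀, -, hc₀, -, ⟨b₀⟩, -⟩ := exists_chart_bc (hfp y).isStack.1 (FibCat.fpSnd f y) i h₀ sq hc hc'
    have : IsAffine T₀.left := inferInstanceAs (IsAffine (Spec B₀))
    have : IsLocallyNoetherian T₀.left := inferInstanceAs (IsLocallyNoetherian (Spec B₀))
    have : IsAffine W₀.left := inferInstanceAs (IsAffine (pullback (Spec.map γ) (Spec.map β₀)))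
    have : LocallyOfFiniteType g₀.left := by
      have : LocallyOfFiniteType (Spec.map γ) := by rw [hγ]; infer_instance
      exact inferInstanceAs (LocallyOfFiniteType (pullback.snd (Spec.map γ) (Spec.map β₀)))
    have hd := imgClosed_of_dvr hval (BasedFunctor.comp (AlgSt.overMap h₀) y) (hfp _)
      (c := BasedFunctor.comp c₀ (pasteHor f (AlgSt.overMap h₀) y))
      (repByAlgSpWith_postcomp (pasteHor_isEquivOver _ _ _) hc₀) (g := g₀) b₀
    have hN := isAlgStack_fp (hfp y) (isAlgStack_overCat T₀) (isAlgStack_overCat (Over.mk str)).isStack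
      (isAlgStack_overCat (Over.mk str)).diag (FibCat.fpSnd f y) (AlgSt.overMap h₀)
    exact hd.of_equiv hN.isStack.1 hN.atlas (pasteHor_isEquivOver _ _ _) (Iso.refl _)
  obtain ⟨G, hG, -, ⟨iG⟩⟩ := isEquivOver_inv (pasteHor_isEquivOver f (AlgSt.overMap (specToBase (str := str) β)) y)
  exact ImgClosed.of_equiv (q' := FibCat.fpSnd (FibCat.fpSnd f y) (AlgSt.overMap (specToBase (str := str) β)))
    (hfp _).isStack.1 (hfp _).atlas hG
    (whiskerRightIso iG (FibCat.fpSnd f (BasedFunctor.comp (AlgSt.overMap (specToBase (str := str) β)) y)))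
    (imgClosed_of_polynomial (hfp y) (FibCat.fpSnd f y) γ hc hc' i hn β)

/-- A quasi-compact functor locally of finite type into a locally Noetherian stack with extended lifts over
discrete valuation rings is universally closed. -/
theorem isUnivClosed_of_dvrLift (h𝒳 : AlgSt.IsAlgStack Scheme.etalePrecoverage 𝒳)
    (h𝒴 : AlgSt.IsAlgStack Scheme.etalePrecoverage 𝒴)
    (hn : AlgSt.SmoothLocally (fun T => IsLocallyNoetherian T) 𝒴) {f : 𝒳 ⥤ᵇ 𝒴}
    (hqc : AlgSt.IsQuasiCompactMor Scheme.etalePrecoverage f)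
    (hft : AlgSt.LocQ (LocP @LocallyOfFiniteType) f) (hval : DvrLift f) :
    AlgSt.IsUnivClosed Scheme.etalePrecoverage f := by
  intro 𝒵 h𝒵 g C hC
  have hX := isAlgStack_fppf_of_etale h𝒳
  have hY := isAlgStack_fppf_of_etale h𝒴
  have hZ := isAlgStack_fppf_of_etale h𝒵
  have hgZ := hZ.isStack.1
  have hftS := (locQ_iff_locQS AlgSpLib.isSmoothLocalST_lft hX hY f).1 hft
  have hgf := isAlgStack_fp hZ hX hY.isStack hY.diag g f
  obtain ⟨V, z, hz₁, hz₂⟩ := hZ.atlas
  obtain ⟨V₀, y, hy₁, hy₂⟩ := hY.atlas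
  rw [← isOpen_compl_iff]
  refine isOpen_of_chart hgZ (repByAlgSpWith_flat_of_smooth hz₁) (repByAlgSpWith_lfp_of_smooth hz₁) hz₂ ?_
  rw [isOpen_iff_forall_mem_open]
  intro v hv
  obtain ⟨U, k, h, ⟨iU⟩, -, hR, hs⟩ :=
    exists_chart_fp hY.isStack.1 (BasedFunctor.comp z g) (repByAlgSp1_of_repByAlgSpWith hy₁)
  have hk : Smooth k.left := hR @Smooth etale_le_smooth hy₁
  obtain ⟨s, rfl⟩ := hs hy₂ v
  obtain ⟨W₀, hW₀, hsW₀, -⟩ := exists_isAffineOpen_mem_and_subset (U := (⊤ : V₀.left.Opens)) (x := h.left s) trivial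
  obtain ⟨W, hW, hsW, hWle⟩ := exists_isAffineOpen_mem_and_subset (U := h.left ⁻¹ᵁ W₀) (x := s) hsW₀
  have : IsAffine W₀.toScheme := hW₀
  have : IsAffine W.toScheme := hW
  let A : CommRingCat.{u} := Γ(W₀.toScheme, ⊤)
  let str : Spec A ⟶ S := W₀.toScheme.isoSpec.inv ≫ W₀.ι ≫ V₀.hom
  let iA : Over.mk str ⟶ V₀ := Over.homMk (W₀.toScheme.isoSpec.inv ≫ W₀.ι) (Category.assoc _ _ _)
  let B : CommRingCat.{u} := Γ(W.toScheme, ⊤)
  let l : W.toScheme ⟶ W₀.toScheme := IsOpenImmersion.lift W₀.ι (W.ι ≫ h.left) (by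
    rw [Scheme.Opens.range_ι]
    rintro _ ⟨x, rfl⟩
    rw [Scheme.Hom.comp_apply]
    exact hWle x.2)
  obtain ⟨β, hβ⟩ : ∃ β : A ⟶ B, Spec.map β = W.toScheme.isoSpec.inv ≫ l ≫ W₀.toScheme.isoSpec.hom :=
    ⟨_, Spec.map_preimage _⟩
  let T : Over S := Over.mk (Spec.map β ≫ str)
  let j : T ⟶ U := Over.homMk (W.toScheme.isoSpec.inv ≫ W.ι) (by
    change (_ ≫ W.ι) ≫ U.hom = Spec.map β ≫ str
    rw [hβ, Category.assoc, Category.assoc, Category.assoc, Iso.hom_inv_id_assoc]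
    congr 1
    rw [← Category.assoc l, IsOpenImmersion.lift_fac, Category.assoc, Over.w h])
  have hjh : j ≫ h = specToBase β ≫ iA := Over.OverMorphism.ext (by
    change (W.toScheme.isoSpec.inv ≫ W.ι) ≫ h.left = Spec.map β ≫ W₀.toScheme.isoSpec.inv ≫ W₀.ι
    rw [hβ, Category.assoc, Category.assoc, Category.assoc, Iso.hom_inv_id_assoc, IsOpenImmersion.lift_fac])
  have hiA : IsOpenImmersion iA.left := inferInstanceAs (IsOpenImmersion (W₀.toScheme.isoSpec.inv ≫ W₀.ι))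
  let yA := BasedFunctor.comp (AlgSt.overMap iA) y
  have hyA : AlgSt.RepByAlgSpWith (LocP @Smooth) yA := repByAlgSpWith_overMap_openImm_comp hy₁
  have : IsLocallyNoetherian V₀.left := hn V₀ y hy₁
  have : IsLocallyNoetherian (Spec A) := isLocallyNoetherian_of_isOpenImmersion iA.left
  have : IsNoetherianRing A := by
    have : IsNoetherianRing Γ(Spec A, ⊤) :=
      IsLocallyNoetherian.component_noetherian (X := Spec A) ⟨⊤, isAffineOpen_top _⟩
    exact isNoetherianRing_of_ringEquiv Γ(Spec A, ⊤) (Scheme.ΓSpecIso A).commRingCatIsoToRingEquiv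
  have : CompactSpace ↥(Over.mk str).left := inferInstanceAs (CompactSpace ↥(Spec A))
  have hVA : AlgSt.IsAlgStack Scheme.etalePrecoverage (FibCat.overCat (Over.mk str) : AlgSt.Cat S) :=
    { isAlgStack_overCat (Over.mk str) with isStack := isStack_etale_of_fppf (isAlgStack_overCat (Over.mk str)).isStack }
  have hq : AlgSt.IsQuasiCompact (FibCat.fp f yA) :=
    isQuasiCompact_of_equiv (fpSwap_isEquivOver yA f) (hqc _ hVA (isQuasiCompact_overCat (Over.mk str)) yA)
  let zT : FibCat.overCat T ⥤ᵇ 𝒵 := BasedFunctor.comp (AlgSt.overMap (j ≫ k)) z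
  let iT : BasedFunctor.comp zT g ≅ BasedFunctor.comp (AlgSt.overMap (specToBase (str := str) β)) yA :=
    whiskerRightIso (AlgStLib.overMapCompIso j k).symm (BasedFunctor.comp z g) ≪≫
      whiskerLeftIso (AlgSt.overMap j) iU ≪≫ whiskerRightIso (AlgStLib.overMapCompIso j h ≪≫
        eqToIso (congrArg AlgSt.overMap hjh) ≪≫ (AlgStLib.overMapCompIso _ iA).symm) y
  let M := fpMap (F := f) (G := BasedFunctor.comp (AlgSt.overMap (specToBase (str := str) β)) yA) (F' := f)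
    (G' := BasedFunctor.comp zT g) (a := BasedFunctor.id _) (b := BasedFunctor.id _) (c := BasedFunctor.id _)
    (Iso.refl _) iT
  have hfT := isAlgStack_fp hX (isAlgStack_overCat T) hY.isStack hY.diag f (BasedFunctor.comp zT g)
  have h₁ : ImgClosed (FibCat.fpSnd f (BasedFunctor.comp zT g)) :=
    (imgClosed_of_chart hX hY hftS hval yA hyA hq β).of_equiv hfT.isStack.1 hfT.atlas
      (e := M) (fpMap_isEquivOver _ _ isEquivOver_id isEquivOver_id) (Iso.refl _)
  have hQ := isAlgStack_fp (isAlgStack_overCat T) hgf hZ.isStack hZ.diag zT (FibCat.fpFst g f)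
  have h₂ : ImgClosed (FibCat.fpFst zT (FibCat.fpFst g f)) :=
    h₁.of_equiv hQ.isStack.1 hQ.atlas (e := BasedFunctor.comp (pasteVert zT g f) (fpSwap (BasedFunctor.comp zT g) f))
      (isEquivOver_comp (pasteVert_isEquivOver _ _ _) (fpSwap_isEquivOver _ _)) (Iso.refl _)
  have h₃ := h₂ _ (hC.preimage (continuous_pts_map hgf.isStack.1 hgf.atlas (FibCat.fpSnd zT (FibCat.fpFst g f))))
  have himg : ∀ t, AlgSt.Points.ofChart z ((j ≫ k).left t) ∈ AlgSt.Points.map (FibCat.fpFst g f) '' C ↔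
      ∃ x ∈ AlgSt.Points.map (FibCat.fpSnd zT (FibCat.fpFst g f)) ⁻¹' C,
        AlgSt.Points.map (FibCat.fpFst zT (FibCat.fpFst g f)) x = ptAt T t := fun t => by
    rw [← ofChart_overMap, ofChart_eq_map]
    constructor
    · rintro ⟨x, hx, hxt⟩
      obtain ⟨p, hp₁, hp₂⟩ := exists_pts_fp hgf.isStack.1 hgZ (isFibGrpd_overCat T) (FibCat.fpFst g f) zT
        (ptAt T t) x hxt.symm
      exact ⟨p, show AlgSt.Points.map _ p ∈ C from hp₂.symm ▸ hx, hp₁⟩
    · rintro ⟨p, hp, hpt⟩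
      refine ⟨_, hp, ?_⟩
      rw [← pts_map_comp, ← pts_map_congr (FibCat.fpIso zT (FibCat.fpFst g f)), pts_map_comp, hpt]
  have hj : IsOpenImmersion j.left := inferInstanceAs (IsOpenImmersion (W.toScheme.isoSpec.inv ≫ W.ι))
  refine ⟨k.left '' (j.left '' {t | ∃ x ∈ AlgSt.Points.map (FibCat.fpSnd zT (FibCat.fpFst g f)) ⁻¹' C,
        AlgSt.Points.map (FibCat.fpFst zT (FibCat.fpFst g f)) x = ptAt T t}ᶜ), ?_,
    (isOpenMap_of_flat_lfp k.left inferInstance inferInstance) _ (hj.base_open.isOpenMap _ h₃.isOpen_compl), ?_⟩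
  · rintro _ ⟨_, ⟨t, ht, rfl⟩, rfl⟩ hc
    exact ht ((himg t).1 hc)
  · have hst : (W.toScheme.isoSpec.inv ≫ W.ι) (W.toScheme.isoSpec.hom ⟨s, hsW⟩) = s := by
      rw [← Scheme.Hom.comp_apply, Iso.hom_inv_id_assoc]
      rfl
    refine ⟨s, ⟨W.toScheme.isoSpec.hom ⟨s, hsW⟩, fun hc => hv ?_, hst⟩, rfl⟩
    have := (himg _).2 hc
    rw [show (j ≫ k).left (W.toScheme.isoSpec.hom ⟨s, hsW⟩) = k.left s from congrArg k.left hst] at this
    exact this

end Groth.Agent.AlgStVC
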